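import Cfsg.Agent.Lib.Cert.G23.M
import Cfsg.Agent.Lib.Cert.Sch2

set_option autoImplicit false
set_option maxRecDepth 100000

namespace Cfsg.Agent.Ct.G23s.S3

open Cfsg.Agent.PC

open Cfsg.Agent.Fi Cfsg.Agent.Ct
def W_t : TL := (TL.node (TL.node (TL.node (TL.node (TL.leaf []) (TL.leaf [nat_lit 2, nat_lit 0, nat_lit 3, nat_lit 2, nat_lit 0, nat_lit 2, nat_lit 3, nat_lit 4, nat_lit 0, nat_lit 1, nat_lit 0, nat_lit 2, nat_lit 0, nat_lit 4, nat_lit 2, nat_lit 0, nat_lit 3, nat_lit 4, nat_lit 2, nat_lit 0, nat_lit 4, nat_lit 3])) (TL.node (TL.leaf [nat_lit 2, nat_lit 0, nat_lit 3, nat_lit 2, nat_lit 0, nat_lit 4, nat_lit 3, nat_lit 0, nat_lit 4, nat_lit 3, nat_lit 0, nat_lit 4, nat_lit 1, nat_lit 0, nat_lit 2, nat_lit 0, nat_lit 4, nat_lit 3, nat_lit 4, nat_lit 2, nat_lit 0, nat_lit 1, nat_lit 4, nat_lit 0]) (TL.leaf [nat_lit 2, nat_lit 0, nat_lit 3, nat_lit 2, nat_lit 0, nat_lit 4, nat_lit 3, nat_lit 4, nat_lit 0, nat_lit 2, nat_lit 3, nat_lit 0, nat_lit 4, nat_lit 0]))) (TL.node (TL.node (TL.leaf [nat_lit 4, nat_lit 2,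 nat_lit 0, nat_lit 1, nat_lit 0, nat_lit 3, nat_lit 1, nat_lit 0, nat_lit 1, nat_lit 3, nat_lit 1, nat_lit 0, nat_lit 1, nat_lit 0, nat_lit 1, nat_lit 4, nat_lit 2, nat_lit 0, nat_lit 1, nat_lit 4, nat_lit 0]) (TL.leaf [nat_lit 3, nat_lit 4, nat_lit 0, nat_lit 1, nat_lit 3, nat_lit 0, nat_lit 4, nat_lit 0, nat_lit 2, nat_lit 4, nat_lit 0, nat_lit 3, nat_lit 4, nat_lit 0, nat_lit 4, nat_lit 0, nat_lit 4, nat_lit 3, nat_lit 4, nat_lit 2, nat_lit 0, nat_lit 2, nat_lit 0, nat_lit 2, nat_lit 0, nat_lit 4])) (TL.node (TL.leaf [nat_lit 2, nat_lit 0, nat_lit 1, nat_lit 4, nat_lit 0, nat_lit 1, nat_lit 1, nat_lit 0, nat_lit 3, nat_lit 0, nat_lit 4, nat_lit 3, nat_lit 4, nat_lit 1, nat_lit 0, nat_lit 4, nat_lit 0]) (TL.leaf [nat_lit 2, nat_lit 0, nat_lit 1, nat_lit 4, nat_lit 0, nat_lit 1, nat_lit 0, nat_lit 3, nat_lit 4, nat_lit 0, nat_lit 4, nat_lit 0, nat_lit 4, nat_lit 3, nat_lit 0, nat_lit 4, nat_lit 0, nat_lit 4, nat_lit 0, nat_lit 3, nat_lit 1, nat_lit 0, nat_lit 2, nat_lit 0, nat_lit 1])))) (TL.node (TL.node (TL.node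 (TL.leaf [nat_lit 3, nat_lit 4, nat_lit 3, nat_lit 0, nat_lit 1, nat_lit 4, nat_lit 0, nat_lit 1, nat_lit 1, nat_lit 0, nat_lit 1, nat_lit 4, nat_lit 0, nat_lit 3, nat_lit 4, nat_lit 2, nat_lit 3, nat_lit 2]) (TL.leaf [nat_lit 2, nat_lit 0, nat_lit 3, nat_lit 4, nat_lit 3, nat_lit 4, nat_lit 0, nat_lit 4, nat_lit 0, nat_lit 4, nat_lit 0, nat_lit 3, nat_lit 4, nat_lit 0, nat_lit 1, nat_lit 3])) (TL.node (TL.leaf [nat_lit 3, nat_lit 0, nat_lit 3, nat_lit 4, nat_lit 3, nat_lit 0, nat_lit 2, nat_lit 4, nat_lit 0, nat_lit 4, nat_lit 0, nat_lit 4, nat_lit 1, nat_lit 0, nat_lit 4, nat_lit 3, nat_lit 0, nat_lit 2, nat_lit 0, nat_lit 4, nat_lit 0, nat_lit 3, nat_lit 2, nat_lit 0, nat_lit 1, nat_lit 4, nat_lit 0, nat_lit 4, nat_lit 0, nat_lit 3, nat_lit 1, nat_lit 4]) (TL.leaf [nat_lit 0, nat_lit 4, nat_lit 1, nat_lit 3, nat_lit 0, nat_lit 4, nat_lit 3, nat_lit 4, nat_lit 0, nat_lit 3, nat_lit 0, nat_lit 2, nat_lit 0, nat_lit 4, nat_lit 2, nat_lit 3, nat_lit 2, nat_lit 0, nat_lit 1, nat_lit 3, nat_lit 0, nat_lit 2]))) (TL.node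 (TL.node (TL.leaf [nat_lit 0, nat_lit 2, nat_lit 3, nat_lit 0, nat_lit 4, nat_lit 3, nat_lit 4, nat_lit 0, nat_lit 3, nat_lit 2, nat_lit 4, nat_lit 2, nat_lit 3, nat_lit 0, nat_lit 4, nat_lit 0, nat_lit 4, nat_lit 1, nat_lit 0, nat_lit 4, nat_lit 2, nat_lit 0, nat_lit 3, nat_lit 4, nat_lit 2, nat_lit 0, nat_lit 2, nat_lit 0]) (TL.leaf [nat_lit 2, nat_lit 0, nat_lit 2, nat_lit 0, nat_lit 1])) (TL.leaf [nat_lit 0, nat_lit 2, nat_lit 3, nat_lit 0, nat_lit 4, nat_lit 3, nat_lit 4, nat_lit 0, nat_lit 3, nat_lit 2, nat_lit 4, nat_lit 0, nat_lit 2, nat_lit 4, nat_lit 0, nat_lit 2, nat_lit 4, nat_lit 0, nat_lit 3, nat_lit 4, nat_lit 0, nat_lit 2, nat_lit 0, nat_lit 2, nat_lit 0, nat_lit 3, nat_lit 4, nat_lit 3]))))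
noncomputable def W (i : ℕ) : List ℕ := TL.get W_t i
def B : List ℕ := [nat_lit 1, nat_lit 2, nat_lit 0]
noncomputable def q (j : ℕ) : G23.P := ev G23.al (W j)
noncomputable def Q (j : ℕ) : ℕ → ℕ := trF G23.T (W j)
theorem md : Md G23.pt 378 B q Q 15 := (G23.md0).words' (by decide +kernel)
def I (i : ℕ) : ℕ := Nat.land (Nat.shiftRight (nat_lit 0x1c0741e07c2008400000000000000000000000000000000000000000000000000000000000000000000000000000000000000000000000000000000000000000000000000000000000000000000000001605c180641a06c000000000000000000000000000000000000000000000000000000000000000000000000000000000000000000000000000000000000000000000000000000000000000000000000015000000000000000000000000000000000000000000000000000000000000000000000000000000000000000000000000000000000000000000000000000000000000000000000000000000000000001403c00000000000000000000000000000000000000000000000000000000000000000000000000000000000000000000000000000000000000000000000000000000000000000000000000000000000130380a00000000000000000000000000000000000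0000000000000000000000000000000000000000000000000000000000000000000000000000000000000000000000000000000000000000000000120340901800000000000000000000000000000000000000000000000000000000000000000000000000000000000000000000000000000000000000000000000000000000000000000000000000000011030080140300000000000000000000000000000000000000000000000000000000000000000000000000000000000000000000000000000000000000000000000000000000000000000000000000001002c0701002004000000000000000000000000000000000000000000000000000000000000000000000000000000000000000000000000000000000000000000000000000000000000000000000000000000000000000000) (Nat.mul (nat_lit 10) i)) (nat_lit 1023)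
def Ru_t1 : TN := (TN.node (TN.node (TN.node (TN.node (TN.leaf (nat_lit 0)) (TN.leaf (nat_lit 0x80820000000002020c2))) (TN.leaf (nat_lit 0x46000000000046082))) (TN.node (TN.leaf (nat_lit 0x84000000000084082)) (TN.leaf (nat_lit 0x1c31041460000000001c4182)))) (TN.node (TN.node (TN.leaf (nat_lit 0x43000000000043082)) (TN.leaf (nat_lit 0x42083146000000000146182))) (TN.node (TN.leaf (nat_lit 0x85000000000085082)) (TN.leaf (nat_lit 0x80410841460000000002061c2)))))
def Ru_t2 : TN := (TN.node (TN.node (TN.node (TN.leaf (nat_lit 0x42000000000042082)) (TN.leaf (nat_lit 0x10c60000000000c60c2))) (TN.node (TN.leaf (nat_lit 0x41082000000004104103)) (TN.leaf (nat_lit 0x70820000000001c20c2)))) (TN.node (TN.node (TN.leaf (nat_lit 0x30c3003)) (TN.leaf (nat_lit 0x70410c31860000000001c61c2))) (TN.node (TN.leaf (nat_lit 0x10820c31050000000001051c2)) (TN.leaf (nat_lit 0x2030c5186000000000204182)))))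
def Ru_t3 : TN := (TN.node Ru_t1 Ru_t2)
def Ru_t4 : TN := (TN.node (TN.node (TN.node (TN.node (TN.leaf (nat_lit 0x1041003)) (TN.leaf (nat_lit 0x80410000000002010c2))) (TN.leaf (nat_lit 0x86000000000086082))) (TN.node (TN.leaf (nat_lit 0x10420c40000000000c4142)) (TN.leaf (nat_lit 0x1c10820c30000000001c3182)))) (TN.node (TN.node (TN.leaf (nat_lit 0x83000000000083082)) (TN.leaf (nat_lit 0x6186003))) (TN.node (TN.leaf (nat_lit 0x410820c50000000000c5182)) (TN.leaf (nat_lit 0x203104146000000000205182)))))
def Ru_t5 : TN := (TN.node (TN.node (TN.node (TN.leaf (nat_lit 0x2082003)) (TN.leaf (nat_lit 0x10c3106000000000106142))) (TN.node (TN.leaf (nat_lit 0x45000000000045082)) (TN.leaf (nat_lit 0x1c10000000001c1082)))) (TN.node (TN.node (TN.leaf (nat_lit 0x44000000000044082)) (TN.leaf (nat_lit 0x1c30c51860000000001c5182))) (TN.node (TN.leaf (nat_lit 0x10820000000051450c3)) (TN.leaf (nat_lit 0x201043000000000203102)))))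
def Ru_t6 : TN := (TN.node Ru_t4 Ru_t5)
def Ru_t : TN := (TN.node Ru_t3 Ru_t6)
noncomputable def Ru (i : ℕ) : ℕ := TN.get Ru_t i
def D_t1 : TN := (TN.node (TN.node (TN.node (TN.node (TN.leaf (nat_lit 0x30000000000000001)) (TN.leaf (nat_lit 0x8000000000000000000000000000000000000000000000000000000000000000000000003000000040000000100000000000000000000000000000000000000000000000000000000000000000000000000000000000000040000000200000000000000040000000100000021))) (TN.leaf (nat_lit 0x300000000000000000000000000000000000000000000000000000000000000000000000000000000000000000000000000000000000000000000000000000000000000000000000000000000000000000000000000000000000000000000000000000000000000000000000300000000000000000000000200000011))) (TN.node (TN.node (TN.leaf (nat_lit 0x3000000000000000000000000000000000000000000000000000000000000000000000000000000000000000000000000000000000000000000000000000000000000000000000000000000000000000000000000000000000000000000000000000000000000000000000000000000000000000000000000000000000000000100000009))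 (TN.leaf (nat_lit 0x300000000000000000000000000000000000000000000000000000000000000030000000300000002000000010000000300000001000000030000000300000003000000010000000100000008000000070000000800000005000000060000000000000002000000010000000500000029))) (TN.leaf (nat_lit 0x6000000000000000000000000000000060000000600000008000000060000000700000019)))) (TN.node (TN.node (TN.node (TN.leaf (nat_lit 0x30000000000000000000000000000000000000000000000000000000000000000000000000000000000000000000000000000000000000000000000000000000000000005)) (TN.leaf (nat_lit 0x8000000070000000800000000000000000000000000000000000000010000000000000007000000020000000600000000000000000000000700000000000000000000000000000000000000000000000000000000000000000000000600000007000000060000000700000025))) (TN.leaf (nat_lit 0x100000000000000000000000000000000000000010000000000000000000000000000000100000000000000000000000100000000000000000000000000000015))) (TN.node (TN.node (TN.leaf (nat_lit 0x600000000000000000000000000000000000000000000000000000000000000000000000000000000000000000000000d))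 (TN.leaf (nat_lit 0x100000000000000000000000000000000000000000000000000000000))) (TN.leaf (nat_lit 0x3000000000000000300000003000000010000000000000000000000000000000000000000000000000000000000000000000000000000000100000006000000040000000200000004000000020000001d)))))
def D_t2 : TN := (TN.node (TN.node (TN.node (TN.node (TN.leaf (nat_lit 0x300000000000000000000000000000000000000000000000000000000000000000000000000000000000000000000000000000000000000000000000000000003)) (TN.leaf (nat_lit 0x7000000070000000000000000000000000000000000000000000000000000000000000004000000040000000100000000000000000000000100000002000000020000000000000000000000000000000000000000000000020000000400000000000000010000000200000023))) (TN.leaf (nat_lit 0x20000000200000000000000000000000000000000000000000000000000000013))) (TN.node (TN.node (TN.leaf (nat_lit 0x6000000000000000000000000000000000000000000000000000000000000000000000000000000000000000b)) (TN.leaf (nat_lit 0x800000007000000000000000000000003000000000000000000000000000000000000000000000000000000000000000100000003000000030000000300000001000000000000000000000003000000010000000200000003000000020000000200000007000000000000000600000006000000010000000000000003000000040000002b)))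 (TN.leaf (nat_lit 0x30000000000000000000000000000000000000000000000000000000000000000000000000000000000000000000000000000000000000000000000000000000000000000000000000000000100000006000000060000000200000006000000010000001b)))) (TN.node (TN.node (TN.node (TN.leaf (nat_lit 0x30000000000000000000000000000000000000000000000000000000000000000000000000000000000000000000000000000000000000000000000000000000000000000000000000000000000000000000000000000000000000001000000000000000000000007)) (TN.leaf (nat_lit 0x7000000070000000000000003000000000000000000000000000000000000000000000000000000000000000000000002000000060000000000000004000000020000000100000001000000000000000400000005000000040000000800000000000000000000000000000004000000010000000000000006000000050000000500000027))) (TN.leaf (nat_lit 0x300000003000000000000000200000000000000000000000000000000000000000000000000000000000000000000000000000002000000000000000400000000000000000000000200000017))) (TN.node (TN.leaf (nat_lit 0x200000001000000000000000000000000000000000000000000000000000000000000000000000000000000000000000f))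 (TN.leaf (nat_lit 0x700000008000000000000000000000000000000000000000000000000000000000000000000000000000000000000000000000000000000000000000200000000000000020000000000000000000000010000000000000001000000000000000800000000000000000000000000000004000000000000000000000005000000000000001f)))))
def D_t3 : TN := (TN.node D_t1 D_t2)
def D_t4 : TN := (TN.node (TN.node (TN.node (TN.node (TN.leaf (nat_lit 0x300000000000000000000000000000002)) (TN.leaf (nat_lit 0x30000000300000004000000010000000000000000000000020000000100000002000000080000000500000004000000050000000300000022))) (TN.leaf (nat_lit 0x100000000000000000000000000000012))) (TN.node (TN.node (TN.leaf (nat_lit 0x60000000000000000000000000000000000000000000000000000000a)) (TN.leaf (nat_lit 0x800000007000000080000000000000000000000000000000000000000000000000000000000000000000000000000000000000008000000010000000100000008000000070000000000000001000000000000000800000000000000000000000800000000000000080000000100000002000000030000000800000000000000080000002a))) (TN.leaf (nat_lit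 0x60000000000000000000000000000000000000000000000000000000000000006000000060000000700000003000000070000001a)))) (TN.node (TN.node (TN.node (TN.leaf (nat_lit 0x3000000000000000000000000000000000000000000000000000000000000000000000000000000000000000000000000000000000000000000000000000000000000000000000000000000000000000000000000000000000000000000000000000000000000000000000006)) (TN.leaf (nat_lit 0x8000000070000000000000000000000030000000000000002000000060000000000000004000000020000000100000000000000000000000400000005000000040000000000000000000000000000000000000004000000010000000000000006000000050000000600000026))) (TN.leaf (nat_lit 0x10000000000000000000000050000000000000016))) (TN.node (TN.leaf (nat_lit 0x300000000000000030000000000000000000000000000000000000000000000000000000000000000000000000000000000000000000000000000000000000000000000010000000e)) (TN.leaf (nat_lit 0x800000000000000000000000000000000000000000000000000000000000000000000000000000000000000000000000000000000000000000000000000000000000000020000000000000000000000010000000000000000000000000000000100000002000000020000000000000008000000070000000100000005000000010000001e)))))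
def D_t5 : TN := (TN.node (TN.node (TN.node (TN.node (TN.leaf (nat_lit 0x30000000000000000000000000000000000000004)) (TN.leaf (nat_lit 0x8000000000000000700000000000000000000000000000000000000000000000000000000000000000000000000000000000000080000000600000002000000070000000700000000000000080000000000000001000000080000000000000007000000070000000700000006000000040000000500000007000000070000000500000024))) (TN.leaf (nat_lit 0x100000000000000000000000000000000000000000000000000000000000000000000000000000000000000000000000200000000000000000000000000000014))) (TN.node (TN.node (TN.leaf (nat_lit 0x6000000000000000000000000000000000000000000000000000000000000000c)) (TN.leaf (nat_lit 0x700000007000000000000000300000000000000000000000100000003000000030000000300000001000000000000000100000003000000010000000200000003000000010000000200000007000000000000000600000006000000010000000000000003000000040000002c))) (TN.leaf (nat_lit 0x30000000100000000000000000000000600000000000000050000000000000000000000000000000000000000000000000000000000000000000000000000000200000000000000040000000000000000000000040000001c))))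 (TN.node (TN.node (TN.node (TN.leaf (nat_lit 0x30000000000000000000000000000000000000000000000000000000000000000000000000000000000000000000000000000000000000000000000000000000000000000000000000000000000000000000000000000000000000000000000000000000000000000000000000000000000000001000000000000000000000008)) (TN.leaf (nat_lit 0x8000000070000000700000000000000000000000000000000000000000000000000000000000000000000000000000000000000080000000500000001000000000000000000000000000000060000000700000002000000070000000000000005000000070000000400000004000000060000000500000003000000030000000100000028))) (TN.leaf (nat_lit 0x40000000000000000000000000000000000000001000000000000000000000000000000000000000000000000000000040000000000000000000000000000000000000018))) (TN.node (TN.leaf (nat_lit 0x10000000000000010)) (TN.leaf (nat_lit 0x2000000020000000100000000000000000000000700000000000000080000000000000001000000020000000100000000000000060000000200000008000000020000000000000020)))))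
def D_t6 : TN := (TN.node D_t4 D_t5)
def D_t : TN := (TN.node D_t3 D_t6)
noncomputable def D (i : ℕ) : ℕ := TN.get D_t i
def La_t1 : TN := (TN.node (TN.node (TN.node (TN.node (TN.leaf (nat_lit 0x60000000300060000000000000606000006060000000306060606060003030600000000020006000000030000)) (TN.leaf (nat_lit 0x10000000000000000000000000000000000000000000000080100080000000000000000000000000000000000))) (TN.leaf (nat_lit 0x80000000000000000000000000000000000))) (TN.node (TN.node (TN.leaf (nat_lit 0x8000000000000000000000000000000)) (TN.leaf (nat_lit 0x800020000000000000000000000000000000000))) (TN.leaf (nat_lit 0x80000000000000000000000000000000000000000000000000000000000000000000000000000000000000000)))) (TN.node (TN.node (TN.node (TN.leaf (nat_lit 0)) (TN.leaf (nat_lit 0))) (TN.leaf (nat_lit 0))) (TN.node (TN.node (TN.leaf (nat_lit 0)) (TN.leaf (nat_lit 0))) (TN.leaf (nat_lit 0)))))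
def La_t2 : TN := (TN.node (TN.node (TN.node (TN.node (TN.leaf (nat_lit 0)) (TN.leaf (nat_lit 0))) (TN.leaf (nat_lit 0))) (TN.node (TN.node (TN.leaf (nat_lit 0)) (TN.leaf (nat_lit 0))) (TN.leaf (nat_lit 0)))) (TN.node (TN.node (TN.node (TN.leaf (nat_lit 0)) (TN.leaf (nat_lit 0))) (TN.leaf (nat_lit 0))) (TN.node (TN.node (TN.leaf (nat_lit 0)) (TN.leaf (nat_lit 0))) (TN.leaf (nat_lit 0)))))
def La_t3 : TN := (TN.node La_t1 La_t2)
def La_t4 : TN := (TN.node (TN.node (TN.node (TN.node (TN.leaf (nat_lit 0)) (TN.leaf (nat_lit 0x808000303060006060100030502030008020000060305060702020008040800000000030007000000010000))) (TN.leaf (nat_lit 0))) (TN.node (TN.node (TN.leaf (nat_lit 0)) (TN.leaf (nat_lit 0x60000020608030000000300030601030003030000020708020405060003040300000000040008000000060000))) (TN.leaf (nat_lit 0)))) (TN.node (TN.node (TN.node (TN.leaf (nat_lit 0)) (TN.leaf (nat_lit 0))) (TN.leaf (nat_lit 0))) (TN.node (TN.node (TN.leaf (nat_lit 0)) (TN.leaf (nat_lit 0))) (TN.leaf (nat_lit 0)))))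
def La_t5 : TN := (TN.node (TN.node (TN.node (TN.node (TN.leaf (nat_lit 0)) (TN.leaf (nat_lit 0))) (TN.leaf (nat_lit 0))) (TN.node (TN.node (TN.leaf (nat_lit 0)) (TN.leaf (nat_lit 0))) (TN.leaf (nat_lit 0)))) (TN.node (TN.node (TN.node (TN.leaf (nat_lit 0)) (TN.leaf (nat_lit 0))) (TN.leaf (nat_lit 0))) (TN.node (TN.node (TN.leaf (nat_lit 0)) (TN.leaf (nat_lit 0))) (TN.leaf (nat_lit 0)))))
def La_t6 : TN := (TN.node La_t4 La_t5)
def La_t7 : TN := (TN.node La_t3 La_t6)
def La_t8 : TN := (TN.node (TN.node (TN.node (TN.node (TN.leaf (nat_lit 0)) (TN.leaf (nat_lit 0x10008000306060003030000060105000007040000080308080601020005060700000000010008000000020000))) (TN.leaf (nat_lit 0x30000000003000000060000000603060000000000000706030706000006030000000000010003000000000000))) (TN.node (TN.node (TN.leaf (nat_lit 0)) (TN.leaf (nat_lit 0x50008000006000003030600030508060001070000000007020206020005010100000000010006000000080000))) (TN.leaf (nat_lit 0)))) (TN.node (TN.node (TN.node (TN.leaf (nat_lit 0)) (TN.leaf (nat_lit 0))) (TN.leaf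 (nat_lit 0))) (TN.node (TN.node (TN.leaf (nat_lit 0)) (TN.leaf (nat_lit 0))) (TN.leaf (nat_lit 0)))))
def La_t9 : TN := (TN.node (TN.node (TN.node (TN.node (TN.leaf (nat_lit 0)) (TN.leaf (nat_lit 0))) (TN.leaf (nat_lit 0))) (TN.node (TN.node (TN.leaf (nat_lit 0)) (TN.leaf (nat_lit 0))) (TN.leaf (nat_lit 0)))) (TN.node (TN.node (TN.node (TN.leaf (nat_lit 0)) (TN.leaf (nat_lit 0))) (TN.leaf (nat_lit 0))) (TN.node (TN.node (TN.leaf (nat_lit 0)) (TN.leaf (nat_lit 0))) (TN.leaf (nat_lit 0)))))
def La_t10 : TN := (TN.node La_t8 La_t9)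
def La_t11 : TN := (TN.node (TN.node (TN.node (TN.node (TN.leaf (nat_lit 0)) (TN.leaf (nat_lit 0))) (TN.leaf (nat_lit 0))) (TN.node (TN.node (TN.leaf (nat_lit 0)) (TN.leaf (nat_lit 0))) (TN.leaf (nat_lit 0)))) (TN.node (TN.node (TN.node (TN.leaf (nat_lit 0)) (TN.leaf (nat_lit 0))) (TN.leaf (nat_lit 0))) (TN.node (TN.node (TN.leaf (nat_lit 0)) (TN.leaf (nat_lit 0))) (TN.leaf (nat_lit 0)))))
def La_t12 : TN := (TN.node (TN.node (TN.node (TN.node (TN.leaf (nat_lit 0)) (TN.leaf (nat_lit 0))) (TN.leaf (nat_lit 0))) (TN.node (TN.node (TN.leaf (nat_lit 0)) (TN.leaf (nat_lit 0))) (TN.leaf (nat_lit 0)))) (TN.node (TN.node (TN.node (TN.leaf (nat_lit 0)) (TN.leaf (nat_lit 0))) (TN.leaf (nat_lit 0))) (TN.node (TN.node (TN.leaf (nat_lit 0)) (TN.leaf (nat_lit 0))) (TN.leaf (nat_lit 0)))))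
def La_t13 : TN := (TN.node La_t11 La_t12)
def La_t14 : TN := (TN.node La_t10 La_t13)
def La_t15 : TN := (TN.node La_t7 La_t14)
def La_t16 : TN := (TN.node (TN.node (TN.node (TN.node (TN.leaf (nat_lit 0)) (TN.leaf (nat_lit 0x40000000000000000000000000000000000000000000000050400050000040000000000000000000000000000))) (TN.leaf (nat_lit 0x8000000000005000000000000000000000000000000))) (TN.node (TN.node (TN.leaf (nat_lit 0x60000000300060000000300030006030006060000060303000600030000060600000000000005000000030000)) (TN.leaf (nat_lit 0x80000000000000000000000000000000000000000020001010800010004080000000000000000000000000000))) (TN.leaf (nat_lit 0x10000000000000000000000000000000000000000000000000004000000000000000000000000000000000000)))) (TN.node (TN.node (TN.node (TN.leaf (nat_lit 0)) (TN.leaf (nat_lit 0))) (TN.leaf (nat_lit 0))) (TN.node (TN.node (TN.leaf (nat_lit 0)) (TN.leaf (nat_lit 0))) (TN.leaf (nat_lit 0)))))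
def La_t17 : TN := (TN.node (TN.node (TN.node (TN.node (TN.leaf (nat_lit 0)) (TN.leaf (nat_lit 0))) (TN.leaf (nat_lit 0))) (TN.node (TN.node (TN.leaf (nat_lit 0)) (TN.leaf (nat_lit 0))) (TN.leaf (nat_lit 0)))) (TN.node (TN.node (TN.node (TN.leaf (nat_lit 0)) (TN.leaf (nat_lit 0))) (TN.leaf (nat_lit 0))) (TN.node (TN.node (TN.leaf (nat_lit 0)) (TN.leaf (nat_lit 0))) (TN.leaf (nat_lit 0)))))
def La_t18 : TN := (TN.node La_t16 La_t17)
def La_t19 : TN := (TN.node (TN.node (TN.node (TN.node (TN.leaf (nat_lit 0)) (TN.leaf (nat_lit 0))) (TN.leaf (nat_lit 0))) (TN.node (TN.node (TN.leaf (nat_lit 0)) (TN.leaf (nat_lit 0x60000030303060006000600000003030005080000060003030803060003060500000000000008000000040000))) (TN.leaf (nat_lit 0)))) (TN.node (TN.node (TN.node (TN.leaf (nat_lit 0)) (TN.leaf (nat_lit 0))) (TN.leaf (nat_lit 0))) (TN.node (TN.node (TN.leaf (nat_lit 0)) (TN.leaf (nat_lit 0))) (TN.leaf (nat_lit 0)))))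
def La_t20 : TN := (TN.node (TN.node (TN.node (TN.node (TN.leaf (nat_lit 0)) (TN.leaf (nat_lit 0))) (TN.leaf (nat_lit 0))) (TN.node (TN.node (TN.leaf (nat_lit 0)) (TN.leaf (nat_lit 0))) (TN.leaf (nat_lit 0)))) (TN.node (TN.node (TN.node (TN.leaf (nat_lit 0)) (TN.leaf (nat_lit 0))) (TN.leaf (nat_lit 0))) (TN.node (TN.node (TN.leaf (nat_lit 0)) (TN.leaf (nat_lit 0))) (TN.leaf (nat_lit 0)))))
def La_t21 : TN := (TN.node La_t19 La_t20)
def La_t22 : TN := (TN.node La_t18 La_t21)
def La_t23 : TN := (TN.node (TN.node (TN.node (TN.node (TN.leaf (nat_lit 0)) (TN.leaf (nat_lit 0))) (TN.leaf (nat_lit 0))) (TN.node (TN.node (TN.leaf (nat_lit 0)) (TN.leaf (nat_lit 0x70008000601030003080600030803040004010000070104000502080008060400000000080000000000050000))) (TN.leaf (nat_lit 0)))) (TN.node (TN.node (TN.node (TN.leaf (nat_lit 0)) (TN.leaf (nat_lit 0))) (TN.leaf (nat_lit 0))) (TN.node (TN.node (TN.leaf (nat_lit 0)) (TN.leaf (nat_lit 0))) (TN.leaf (nat_lit 0)))))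
def La_t24 : TN := (TN.node (TN.node (TN.node (TN.node (TN.leaf (nat_lit 0)) (TN.leaf (nat_lit 0))) (TN.leaf (nat_lit 0))) (TN.node (TN.node (TN.leaf (nat_lit 0)) (TN.leaf (nat_lit 0))) (TN.leaf (nat_lit 0)))) (TN.node (TN.node (TN.node (TN.leaf (nat_lit 0)) (TN.leaf (nat_lit 0))) (TN.leaf (nat_lit 0))) (TN.node (TN.node (TN.leaf (nat_lit 0)) (TN.leaf (nat_lit 0))) (TN.leaf (nat_lit 0)))))
def La_t25 : TN := (TN.node La_t23 La_t24)
def La_t26 : TN := (TN.node (TN.node (TN.node (TN.node (TN.leaf (nat_lit 0)) (TN.leaf (nat_lit 0))) (TN.leaf (nat_lit 0))) (TN.node (TN.node (TN.leaf (nat_lit 0)) (TN.leaf (nat_lit 0))) (TN.leaf (nat_lit 0)))) (TN.node (TN.node (TN.node (TN.leaf (nat_lit 0)) (TN.leaf (nat_lit 0))) (TN.leaf (nat_lit 0))) (TN.node (TN.node (TN.leaf (nat_lit 0)) (TN.leaf (nat_lit 0))) (TN.leaf (nat_lit 0)))))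
def La_t27 : TN := (TN.node (TN.node (TN.node (TN.node (TN.leaf (nat_lit 0)) (TN.leaf (nat_lit 0))) (TN.leaf (nat_lit 0))) (TN.node (TN.node (TN.leaf (nat_lit 0)) (TN.leaf (nat_lit 0))) (TN.leaf (nat_lit 0)))) (TN.node (TN.node (TN.node (TN.leaf (nat_lit 0)) (TN.leaf (nat_lit 0))) (TN.leaf (nat_lit 0))) (TN.node (TN.node (TN.leaf (nat_lit 0)) (TN.leaf (nat_lit 0))) (TN.leaf (nat_lit 0)))))
def La_t28 : TN := (TN.node La_t26 La_t27)
def La_t29 : TN := (TN.node La_t25 La_t28)
def La_t30 : TN := (TN.node La_t22 La_t29)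
def La_t : TN := (TN.node La_t15 La_t30)
noncomputable def La (i : ℕ) : ℕ := TN.get La_t i
def Le_t : TN := (TN.leaf (nat_lit 0x30003000000030000000606030000000000060600060606030803030000000000080003000000000100))
noncomputable def Le (i : ℕ) : ℕ := TN.get Le_t i
def C_t1 : TN := (TN.node (TN.node (TN.node (TN.node (TN.leaf (nat_lit 0)) (TN.leaf (nat_lit 0))) (TN.node (TN.leaf (nat_lit 0)) (TN.leaf (nat_lit 0)))) (TN.node (TN.node (TN.leaf (nat_lit 0)) (TN.leaf (nat_lit 0))) (TN.node (TN.leaf (nat_lit 0)) (TN.leaf (nat_lit 0))))) (TN.node (TN.node (TN.node (TN.leaf (nat_lit 0x80000000000000000000000000000000000000000000000000000000700000000000000000000000000000000000000000000000000000000000000040000000000000000000000000000000700000002000000000000000000000000000000000000000000000000000000000000000000000000)) (TN.leaf (nat_lit 0))) (TN.node (TN.leaf (nat_lit 0)) (TN.leaf (nat_lit 0)))) (TN.node (TN.node (TN.leaf (nat_lit 0)) (TN.leaf (nat_lit 0))) (TN.node (TN.leaf (nat_lit 0)) (TN.leaf (nat_lit 0))))))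
def C_t2 : TN := (TN.node (TN.node (TN.node (TN.node (TN.leaf (nat_lit 0x60000000000000000000000000000000000000000000000000000000300000000000000000000000000000000000000000000000000000000000000030000000000000000000000000000000400000005000000000000000000000000000000000000000000000000000000000000000000000000)) (TN.leaf (nat_lit 0))) (TN.node (TN.leaf (nat_lit 0)) (TN.leaf (nat_lit 0)))) (TN.node (TN.node (TN.leaf (nat_lit 0)) (TN.leaf (nat_lit 0))) (TN.node (TN.leaf (nat_lit 0)) (TN.leaf (nat_lit 0))))) (TN.node (TN.node (TN.node (TN.leaf (nat_lit 0x700000000000000000000000000000000000000000000000000000000000000080000000000000000000000000000000700000003000000000000000000000000000000000000000000000000000000000000000000000000)) (TN.leaf (nat_lit 0))) (TN.node (TN.leaf (nat_lit 0)) (TN.leaf (nat_lit 0)))) (TN.node (TN.node (TN.leaf (nat_lit 0)) (TN.leaf (nat_lit 0))) (TN.node (TN.leaf (nat_lit 0)) (TN.leaf (nat_lit 0))))))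
def C_t3 : TN := (TN.node C_t1 C_t2)
def C_t4 : TN := (TN.node (TN.node (TN.node (TN.node (TN.leaf (nat_lit 0x60000000000000000000000000000000000000000000000000000000300000000000000000000000000000000000000000000000000000000000000030000000000000000000000000000000700000007000000000000000000000000000000000000000000000000000000000000000000000000)) (TN.leaf (nat_lit 0))) (TN.node (TN.leaf (nat_lit 0)) (TN.leaf (nat_lit 0)))) (TN.node (TN.node (TN.leaf (nat_lit 0)) (TN.leaf (nat_lit 0))) (TN.node (TN.leaf (nat_lit 0)) (TN.leaf (nat_lit 0))))) (TN.node (TN.node (TN.node (TN.leaf (nat_lit 0x40000000000000000000000000000000000000004000000000000000400000000000000000000000000000000000000000000000000000000000000040000000000000000000000000000000700000002000000000000000000000000000000000000000000000000000000000000000000000000)) (TN.leaf (nat_lit 0))) (TN.node (TN.leaf (nat_lit 0)) (TN.leaf (nat_lit 0)))) (TN.node (TN.node (TN.leaf (nat_lit 0)) (TN.leaf (nat_lit 0))) (TN.node (TN.leaf (nat_lit 0)) (TN.leaf (nat_lit 0))))))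
def C_t5 : TN := (TN.node (TN.node (TN.node (TN.node (TN.leaf (nat_lit 0x50000000000000000000000000000000600000005000000000000000000000000000000000000000000000000000000000000000000000000)) (TN.leaf (nat_lit 0))) (TN.node (TN.leaf (nat_lit 0)) (TN.leaf (nat_lit 0)))) (TN.node (TN.node (TN.leaf (nat_lit 0)) (TN.leaf (nat_lit 0))) (TN.node (TN.leaf (nat_lit 0)) (TN.leaf (nat_lit 0))))) (TN.node (TN.node (TN.node (TN.leaf (nat_lit 0)) (TN.leaf (nat_lit 0))) (TN.node (TN.leaf (nat_lit 0)) (TN.leaf (nat_lit 0)))) (TN.node (TN.node (TN.leaf (nat_lit 0)) (TN.leaf (nat_lit 0))) (TN.node (TN.leaf (nat_lit 0)) (TN.leaf (nat_lit 0))))))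
def C_t6 : TN := (TN.node C_t4 C_t5)
def C_t : TN := (TN.node C_t3 C_t6)
noncomputable def C (i : ℕ) : ℕ := TN.get C_t i
def e (i : ℕ) : ℕ := Nat.land (Nat.shiftRight (nat_lit 3) (Nat.mul (nat_lit 2) i)) (nat_lit 3)
def U_t : TL := (TL.node (TL.node (TL.node (TL.node (TL.node (TL.node (TL.leaf [nat_lit 1]) (TL.leaf [nat_lit 7])) (TL.leaf [nat_lit 8])) (TL.node (TL.node (TL.leaf [nat_lit 8]) (TL.leaf [nat_lit 8])) (TL.leaf [nat_lit 3, nat_lit 3]))) (TL.node (TL.node (TL.node (TL.leaf [nat_lit 2]) (TL.leaf [nat_lit 7])) (TL.leaf [nat_lit 7])) (TL.node (TL.leaf [nat_lit 2, nat_lit 2]) (TL.leaf [nat_lit 5])))) (TL.node (TL.node (TL.node (TL.node (TL.leaf [nat_lit 1]) (TL.leaf [nat_lit 7])) (TL.leaf [nat_lit 4])) (TL.node (TL.node (TL.leaf [nat_lit 1, nat_lit 1]) (TL.leaf [nat_lit 8])) (TL.leaf [nat_lit 7]))) (TL.node (TL.node (TL.node (TL.leaf [nat_lit 7]) (TL.leaf [nat_lit 8])) (TL.leaf [nat_lit 4])) (TL.node (TL.leaf [nat_lit 5]) (TL.leaf [nat_lit 8]))))) (TL.node (TL.node (TL.node (TL.node (TL.node (TL.leaf [nat_lit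 1]) (TL.leaf [nat_lit 4])) (TL.leaf [nat_lit 8])) (TL.node (TL.node (TL.leaf [nat_lit 1, nat_lit 1]) (TL.leaf [nat_lit 8])) (TL.leaf [nat_lit 3, nat_lit 3]))) (TL.node (TL.node (TL.node (TL.leaf [nat_lit 7]) (TL.leaf [nat_lit 7])) (TL.leaf [nat_lit 8])) (TL.node (TL.leaf [nat_lit 3]) (TL.leaf [nat_lit 8])))) (TL.node (TL.node (TL.node (TL.node (TL.leaf [nat_lit 2]) (TL.leaf [nat_lit 8])) (TL.leaf [nat_lit 7])) (TL.node (TL.node (TL.leaf [nat_lit 2, nat_lit 2]) (TL.leaf [nat_lit 7])) (TL.leaf [nat_lit 7]))) (TL.node (TL.node (TL.node (TL.leaf [nat_lit 8]) (TL.leaf [nat_lit 8])) (TL.leaf [nat_lit 7])) (TL.node (TL.leaf [nat_lit 7]) (TL.leaf [nat_lit 4]))))))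
noncomputable def U (i : ℕ) : List ℕ := TL.get U_t i
def V1_t : TL := (TL.node (TL.node (TL.node (TL.node (TL.node (TL.node (TL.leaf [nat_lit 2, nat_lit 2, nat_lit 2]) (TL.leaf [nat_lit 3, nat_lit 6])) (TL.leaf [nat_lit 3, nat_lit 3, nat_lit 3])) (TL.node (TL.node (TL.leaf [nat_lit 1, nat_lit 1, nat_lit 1]) (TL.leaf [nat_lit 6, nat_lit 6, nat_lit 6])) (TL.leaf [nat_lit 3, nat_lit 4]))) (TL.node (TL.node (TL.node (TL.leaf [nat_lit 6, nat_lit 6, nat_lit 6]) (TL.leaf [nat_lit 5, nat_lit 6])) (TL.leaf [nat_lit 1, nat_lit 4])) (TL.node (TL.leaf [nat_lit 2, nat_lit 5]) (TL.leaf [nat_lit 6, nat_lit 6, nat_lit 6])))) (TL.node (TL.node (TL.node (TL.node (TL.leaf [nat_lit 6, nat_lit 6, nat_lit 6]) (TL.leaf [nat_lit 3, nat_lit 5])) (TL.leaf [nat_lit 4, nat_lit 4, nat_lit 4])) (TL.node (TL.node (TL.leaf [nat_lit 1, nat_lit 5]) (TL.leaf [nat_lit 5, nat_lit 5, nat_lit 5])) (TL.leaf [nat_lit 3, nat_lit 3, nat_lit 3]))) (TL.node (TL.node (TL.node (TL.leaf [nat_lit 2, nat_lit 2, nat_lit 2]) (TL.leaf [nat_lit 4, nat_lit 4, nat_lit 4]))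 (TL.leaf [nat_lit 6, nat_lit 6, nat_lit 6])) (TL.node (TL.leaf [nat_lit 5, nat_lit 5, nat_lit 5]) (TL.leaf [nat_lit 3, nat_lit 4]))))) (TL.node (TL.node (TL.node (TL.node (TL.node (TL.leaf [nat_lit 3, nat_lit 3, nat_lit 3]) (TL.leaf [nat_lit 5, nat_lit 5, nat_lit 5])) (TL.leaf [nat_lit 1, nat_lit 3])) (TL.node (TL.node (TL.leaf [nat_lit 1, nat_lit 4]) (TL.leaf [nat_lit 5, nat_lit 6])) (TL.leaf [nat_lit 3, nat_lit 5]))) (TL.node (TL.node (TL.node (TL.leaf [nat_lit 1, nat_lit 1, nat_lit 1]) (TL.leaf [nat_lit 5, nat_lit 5, nat_lit 5])) (TL.leaf [nat_lit 2, nat_lit 3])) (TL.node (TL.leaf [nat_lit 6, nat_lit 6, nat_lit 6]) (TL.leaf [nat_lit 3, nat_lit 6])))) (TL.node (TL.node (TL.node (TL.node (TL.leaf [nat_lit 3, nat_lit 3, nat_lit 3]) (TL.leaf [nat_lit 4, nat_lit 6])) (TL.leaf [nat_lit 1, nat_lit 6])) (TL.node (TL.node (TL.leaf [nat_lit 2, nat_lit 4]) (TL.leaf [nat_lit 4, nat_lit 4, nat_lit 4])) (TL.leaf [nat_lit 6, nat_lit 6, nat_lit 6]))) (TL.node (TL.node (TL.node (TL.leaf [nat_lit 2, nat_lit 2, nat_lit 2]) (TL.leaf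 [nat_lit 4, nat_lit 5])) (TL.leaf [nat_lit 2, nat_lit 5])) (TL.node (TL.leaf [nat_lit 1, nat_lit 2]) (TL.leaf [nat_lit 5, nat_lit 6]))))))
noncomputable def V1 (i : ℕ) : List ℕ := TL.get V1_t i
def V2_t : TL := (TL.node (TL.node (TL.node (TL.node (TL.node (TL.node (TL.leaf []) (TL.leaf [nat_lit 6, nat_lit 3, nat_lit 1])) (TL.leaf [])) (TL.node (TL.node (TL.leaf []) (TL.leaf [])) (TL.leaf [nat_lit 4, nat_lit 3, nat_lit 2, nat_lit 1, nat_lit 1]))) (TL.node (TL.node (TL.node (TL.leaf []) (TL.leaf [nat_lit 6, nat_lit 5, nat_lit 3, nat_lit 2, nat_lit 2, nat_lit 1])) (TL.leaf [nat_lit 4, nat_lit 1])) (TL.node (TL.leaf [nat_lit 5, nat_lit 2]) (TL.leaf [])))) (TL.node (TL.node (TL.node (TL.node (TL.leaf []) (TL.leaf [nat_lit 5, nat_lit 3, nat_lit 2, nat_lit 2, nat_lit 1, nat_lit 1])) (TL.leaf [nat_lit 2, nat_lit 2, nat_lit 1, nat_lit 1])) (TL.node (TL.node (TL.leaf [nat_lit 5, nat_lit 1]) (TL.leaf [nat_lit 2, nat_lit 2, nat_lit 1])) (TL.leaf []))) (TL.node (TL.node (TL.node (TL.leaf []) (TL.leaf [nat_lit 2, nat_lit 2, nat_lit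 1, nat_lit 1])) (TL.leaf [])) (TL.node (TL.leaf [nat_lit 2, nat_lit 2, nat_lit 1]) (TL.leaf [nat_lit 4, nat_lit 3, nat_lit 2, nat_lit 1, nat_lit 1]))))) (TL.node (TL.node (TL.node (TL.node (TL.node (TL.leaf []) (TL.leaf [nat_lit 2, nat_lit 2, nat_lit 1])) (TL.leaf [nat_lit 3, nat_lit 1])) (TL.node (TL.node (TL.leaf [nat_lit 4, nat_lit 1]) (TL.leaf [nat_lit 6, nat_lit 5, nat_lit 3, nat_lit 2, nat_lit 2, nat_lit 1])) (TL.leaf [nat_lit 5, nat_lit 3, nat_lit 2, nat_lit 2, nat_lit 1, nat_lit 1]))) (TL.node (TL.node (TL.node (TL.leaf []) (TL.leaf [nat_lit 2, nat_lit 2, nat_lit 1])) (TL.leaf [nat_lit 3, nat_lit 2])) (TL.node (TL.leaf []) (TL.leaf [nat_lit 6, nat_lit 3, nat_lit 1])))) (TL.node (TL.node (TL.node (TL.node (TL.leaf []) (TL.leaf [nat_lit 6, nat_lit 4, nat_lit 3, nat_lit 3, nat_lit 1])) (TL.leaf [nat_lit 6, nat_lit 1])) (TL.node (TL.node (TL.leaf [nat_lit 4, nat_lit 2]) (TL.leaf [nat_lit 2, nat_lit 2, nat_lit 1, nat_lit 1])) (TL.leaf []))) (TL.node (TL.node (TL.node (TL.leaf []) (TL.leaf [nat_lit 5, nat_lit 4, nat_lit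 3, nat_lit 3, nat_lit 2, nat_lit 2, nat_lit 1])) (TL.leaf [nat_lit 5, nat_lit 2])) (TL.node (TL.leaf [nat_lit 2, nat_lit 1]) (TL.leaf [nat_lit 6, nat_lit 5, nat_lit 3, nat_lit 2, nat_lit 2, nat_lit 1]))))))
noncomputable def V2 (i : ℕ) : List ℕ := TL.get V2_t i
def Y_t : TL := (TL.node (TL.node (TL.node (TL.leaf [nat_lit 5, nat_lit 4, nat_lit 3, nat_lit 1, nat_lit 1]) (TL.leaf [nat_lit 6, nat_lit 5, nat_lit 5, nat_lit 4, nat_lit 4, nat_lit 2, nat_lit 2, nat_lit 1])) (TL.leaf [nat_lit 5, nat_lit 4, nat_lit 3, nat_lit 3])) (TL.node (TL.node (TL.leaf [nat_lit 5, nat_lit 5, nat_lit 4, nat_lit 4, nat_lit 3, nat_lit 2, nat_lit 1, nat_lit 1]) (TL.leaf [nat_lit 6, nat_lit 5, nat_lit 4, nat_lit 4, nat_lit 3, nat_lit 3, nat_lit 2, nat_lit 2, nat_lit 1])) (TL.leaf [nat_lit 2, nat_lit 1, nat_lit 1])))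
noncomputable def Y (i : ℕ) : List ℕ := TL.get Y_t i
def O_t : TL := (TL.node (TL.node (TL.node (TL.leaf [nat_lit 0]) (TL.leaf [nat_lit 2, nat_lit 265, nat_lit 372])) (TL.leaf [nat_lit 9])) (TL.node (TL.node (TL.leaf [nat_lit 1]) (TL.leaf [nat_lit 2, nat_lit 265, nat_lit 127, nat_lit 372, nat_lit 340, nat_lit 41, nat_lit 194, nat_lit 245, nat_lit 140])) (TL.leaf [nat_lit 2])))
noncomputable def O (i : ℕ) : List ℕ := TL.get O_t i
noncomputable def f1 : ℕ → ℕ := rvE Q B (nat_lit 15) Ru
noncomputable def f2 (j : ℕ) : ℕ := rlE I Ru (nat_lit 34) (nat_lit 9) (U j) (V1 j) (V2 j) (D j)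
noncomputable def f3 : ℕ → ℕ := tgR I Ru (nat_lit 34) (nat_lit 3) (nat_lit 9) C D (nat_lit 45) La
noncomputable def f4 : ℕ → ℕ := chE Q B (nat_lit 378) (nat_lit 15) (nat_lit 6) (nat_lit 9) Y O
theorem ra0 : Nat.beq (rng f1 (nat_lit 0) (nat_lit 34)) (nat_lit 0) = true := by decide +kernel
theorem rb0 : Nat.beq (rng f2 (nat_lit 0) (nat_lit 44)) (nat_lit 0) = true := by decide +kernel
theorem rc0 : Nat.beq (rng f3 (nat_lit 0) (nat_lit 6)) (nat_lit 0) = true := by decide +kernel
theorem rd0 : Nat.beq (rng f4 (nat_lit 0) (nat_lit 6)) (nat_lit 0) = true := by decide +kernel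
theorem h1 : ∀ i < 34, f1 i = 0 := by
  have h := zero_lt_zero f1
  have h := zero_lt_add (a := (nat_lit 0)) (n := (nat_lit 34)) (b := (nat_lit 34)) h ra0 rfl
  exact h
theorem h2 : ∀ i < 44, f2 i = 0 := by
  have h := zero_lt_zero f2
  have h := zero_lt_add (a := (nat_lit 0)) (n := (nat_lit 44)) (b := (nat_lit 44)) h rb0 rfl
  exact h
theorem h3 : ∀ i < 6, f3 i = 0 := by
  have h := zero_lt_zero f3
  have h := zero_lt_add (a := (nat_lit 0)) (n := (nat_lit 6)) (b := (nat_lit 6)) h rc0 rfl
  exact h
theorem h4 : ∀ i < 6, f4 i = 0 := by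
  have h := zero_lt_zero f4
  have h := zero_lt_add (a := (nat_lit 0)) (n := (nat_lit 6)) (b := (nat_lit 6)) h rd0 rfl
  exact h
theorem nok : NoK (G23.P) (3 ^ (1 + 1)) := fun _ _ _ _ h =>
  (md.rv (I := I) (K := 34) rfl ⟨rfl, by decide⟩ (upTo_beq (by decide +kernel)) h1).core h (by norm_num)
    (md.syl (by norm_num) rfl (by decide) h4) (by rw [G23.card]; decide) (n := 9) (s := 1) (e := e) (L := Le) (C := C)
    ⟨rfl, by decide, rfl, by decide, by decide, rfl, by decide⟩ h2 (upTo_beq (by decide +kernel)) (upTo_beq (by decide +kernel)) h3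

end Cfsg.Agent.Ct.G23s.S3
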